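import Cfsg.Agent.Ex9.Net

/-! Kernel checks of relations. -/

set_option autoImplicit false
set_option maxRecDepth 100000
set_option Elab.async false

namespace Cfsg.Agent.Ex9

def rl0 : List (List ℕ) :=
  [[nat_lit 0, nat_lit 0],
   [nat_lit 1, nat_lit 1],
   [nat_lit 2, nat_lit 2],
   [nat_lit 3, nat_lit 3],
   [nat_lit 4, nat_lit 4],
   [nat_lit 5, nat_lit 5],
   [nat_lit 6, nat_lit 6],
   [nat_lit 7, nat_lit 7],
   [nat_lit 8, nat_lit 8],
   [nat_lit 9, nat_lit 9],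
   [nat_lit 10, nat_lit 10],
   [nat_lit 11, nat_lit 11],
   [nat_lit 12, nat_lit 12],
   [nat_lit 13, nat_lit 13],
   [nat_lit 0, nat_lit 1, nat_lit 0, nat_lit 1, nat_lit 0, nat_lit 1],
   [nat_lit 0, nat_lit 2, nat_lit 0, nat_lit 2],
   [nat_lit 0, nat_lit 3, nat_lit 0, nat_lit 3],
   [nat_lit 0, nat_lit 4, nat_lit 0, nat_lit 4],
   [nat_lit 0, nat_lit 5, nat_lit 0, nat_lit 5],
   [nat_lit 0, nat_lit 6, nat_lit 0, nat_lit 6],
   [nat_lit 0, nat_lit 7, nat_lit 0, nat_lit 7],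
   [nat_lit 0, nat_lit 8, nat_lit 0, nat_lit 8],
   [nat_lit 0, nat_lit 9, nat_lit 0, nat_lit 9, nat_lit 0, nat_lit 9],
   [nat_lit 0, nat_lit 10, nat_lit 0, nat_lit 10],
   [nat_lit 0, nat_lit 11, nat_lit 0, nat_lit 11],
   [nat_lit 0, nat_lit 12, nat_lit 0, nat_lit 12],
   [nat_lit 0, nat_lit 13, nat_lit 0, nat_lit 13],
   [nat_lit 1, nat_lit 2, nat_lit 1, nat_lit 2, nat_lit 1, nat_lit 2],
   [nat_lit 1, nat_lit 3, nat_lit 1, nat_lit 3],
   [nat_lit 1, nat_lit 4, nat_lit 1, nat_lit 4],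
   [nat_lit 1, nat_lit 5, nat_lit 1, nat_lit 5, nat_lit 1, nat_lit 5]]

theorem rl0_0 : pl rl0 (nat_lit 0) = true := by decide +kernel
theorem rl0_1 : pl rl0 (nat_lit 1) = true := by decide +kernel
theorem rl0_2 : pl rl0 (nat_lit 2) = true := by decide +kernel
theorem rl0_3 : pl rl0 (nat_lit 3) = true := by decide +kernel
theorem rl0_4 : pl rl0 (nat_lit 4) = true := by decide +kernel
theorem rl0_5 : pl rl0 (nat_lit 5) = true := by decide +kernel
theorem rl0_6 : pl rl0 (nat_lit 6) = true := by decide +kernel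
theorem rl0_7 : pl rl0 (nat_lit 7) = true := by decide +kernel
theorem rl0_8 : pl rl0 (nat_lit 8) = true := by decide +kernel
theorem rl0_9 : pl rl0 (nat_lit 9) = true := by decide +kernel
theorem rl0_10 : pl rl0 (nat_lit 10) = true := by decide +kernel
theorem rl0_11 : pl rl0 (nat_lit 11) = true := by decide +kernel
theorem rl0_12 : pl rl0 (nat_lit 12) = true := by decide +kernel
theorem rl0_13 : pl rl0 (nat_lit 13) = true := by decide +kernel
theorem rl0_14 : pl rl0 (nat_lit 14) = true := by decide +kernel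
theorem rl0_15 : pl rl0 (nat_lit 15) = true := by decide +kernel
theorem rl0_16 : pl rl0 (nat_lit 16) = true := by decide +kernel
theorem rl0_17 : pl rl0 (nat_lit 17) = true := by decide +kernel
theorem rl0_18 : pl rl0 (nat_lit 18) = true := by decide +kernel

theorem trv0 : Trv rl0 := trv_of_pl (by decide +kernel) fun b h => by
  interval_cases b
  exacts [rl0_0, rl0_1, rl0_2, rl0_3, rl0_4, rl0_5, rl0_6, rl0_7, rl0_8, rl0_9, rl0_10, rl0_11, rl0_12, rl0_13, rl0_14, rl0_15, rl0_16, rl0_17, rl0_18]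

def rl1 : List (List ℕ) :=
  [[nat_lit 1, nat_lit 6, nat_lit 1, nat_lit 6],
   [nat_lit 1, nat_lit 7, nat_lit 1, nat_lit 7],
   [nat_lit 1, nat_lit 8, nat_lit 1, nat_lit 8],
   [nat_lit 1, nat_lit 9, nat_lit 1, nat_lit 9],
   [nat_lit 1, nat_lit 10, nat_lit 1, nat_lit 10],
   [nat_lit 1, nat_lit 11, nat_lit 1, nat_lit 11],
   [nat_lit 1, nat_lit 12, nat_lit 1, nat_lit 12],
   [nat_lit 1, nat_lit 13, nat_lit 1, nat_lit 13],
   [nat_lit 2, nat_lit 3, nat_lit 2, nat_lit 3, nat_lit 2, nat_lit 3],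
   [nat_lit 2, nat_lit 4, nat_lit 2, nat_lit 4],
   [nat_lit 2, nat_lit 5, nat_lit 2, nat_lit 5],
   [nat_lit 2, nat_lit 6, nat_lit 2, nat_lit 6],
   [nat_lit 2, nat_lit 7, nat_lit 2, nat_lit 7],
   [nat_lit 2, nat_lit 8, nat_lit 2, nat_lit 8],
   [nat_lit 2, nat_lit 9, nat_lit 2, nat_lit 9],
   [nat_lit 2, nat_lit 10, nat_lit 2, nat_lit 10],
   [nat_lit 2, nat_lit 11, nat_lit 2, nat_lit 11],
   [nat_lit 2, nat_lit 12, nat_lit 2, nat_lit 12],
   [nat_lit 2, nat_lit 13, nat_lit 2, nat_lit 13],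
   [nat_lit 3, nat_lit 4, nat_lit 3, nat_lit 4, nat_lit 3, nat_lit 4],
   [nat_lit 3, nat_lit 5, nat_lit 3, nat_lit 5],
   [nat_lit 3, nat_lit 6, nat_lit 3, nat_lit 6],
   [nat_lit 3, nat_lit 7, nat_lit 3, nat_lit 7, nat_lit 3, nat_lit 7],
   [nat_lit 3, nat_lit 8, nat_lit 3, nat_lit 8],
   [nat_lit 3, nat_lit 9, nat_lit 3, nat_lit 9]]

theorem rl1_0 : pl rl1 (nat_lit 0) = true := by decide +kernel
theorem rl1_1 : pl rl1 (nat_lit 1) = true := by decide +kernel
theorem rl1_2 : pl rl1 (nat_lit 2) = true := by decide +kernel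
theorem rl1_3 : pl rl1 (nat_lit 3) = true := by decide +kernel
theorem rl1_4 : pl rl1 (nat_lit 4) = true := by decide +kernel
theorem rl1_5 : pl rl1 (nat_lit 5) = true := by decide +kernel
theorem rl1_6 : pl rl1 (nat_lit 6) = true := by decide +kernel
theorem rl1_7 : pl rl1 (nat_lit 7) = true := by decide +kernel
theorem rl1_8 : pl rl1 (nat_lit 8) = true := by decide +kernel
theorem rl1_9 : pl rl1 (nat_lit 9) = true := by decide +kernel
theorem rl1_10 : pl rl1 (nat_lit 10) = true := by decide +kernel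
theorem rl1_11 : pl rl1 (nat_lit 11) = true := by decide +kernel
theorem rl1_12 : pl rl1 (nat_lit 12) = true := by decide +kernel
theorem rl1_13 : pl rl1 (nat_lit 13) = true := by decide +kernel
theorem rl1_14 : pl rl1 (nat_lit 14) = true := by decide +kernel
theorem rl1_15 : pl rl1 (nat_lit 15) = true := by decide +kernel
theorem rl1_16 : pl rl1 (nat_lit 16) = true := by decide +kernel
theorem rl1_17 : pl rl1 (nat_lit 17) = true := by decide +kernel
theorem rl1_18 : pl rl1 (nat_lit 18) = true := by decide +kernel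

theorem trv1 : Trv rl1 := trv_of_pl (by decide +kernel) fun b h => by
  interval_cases b
  exacts [rl1_0, rl1_1, rl1_2, rl1_3, rl1_4, rl1_5, rl1_6, rl1_7, rl1_8, rl1_9, rl1_10, rl1_11, rl1_12, rl1_13, rl1_14, rl1_15, rl1_16, rl1_17, rl1_18]

end Cfsg.Agent.Ex9
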