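import Cfsg.Agent.Ex9.Net

/-! Kernel checks of relations. -/

set_option autoImplicit false
set_option maxRecDepth 100000
set_option Elab.async false

namespace Cfsg.Agent.Ex9

def rl2 : List (List ℕ) :=
  [[nat_lit 3, nat_lit 10, nat_lit 3, nat_lit 10],
   [nat_lit 3, nat_lit 11, nat_lit 3, nat_lit 11],
   [nat_lit 3, nat_lit 12, nat_lit 3, nat_lit 12],
   [nat_lit 3, nat_lit 13, nat_lit 3, nat_lit 13],
   [nat_lit 4, nat_lit 5, nat_lit 4, nat_lit 5],
   [nat_lit 4, nat_lit 6, nat_lit 4, nat_lit 6],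
   [nat_lit 4, nat_lit 7, nat_lit 4, nat_lit 7],
   [nat_lit 4, nat_lit 8, nat_lit 4, nat_lit 8],
   [nat_lit 4, nat_lit 9, nat_lit 4, nat_lit 9],
   [nat_lit 4, nat_lit 10, nat_lit 4, nat_lit 10],
   [nat_lit 4, nat_lit 11, nat_lit 4, nat_lit 11, nat_lit 4, nat_lit 11],
   [nat_lit 4, nat_lit 12, nat_lit 4, nat_lit 12],
   [nat_lit 4, nat_lit 13, nat_lit 4, nat_lit 13],
   [nat_lit 5, nat_lit 6, nat_lit 5, nat_lit 6, nat_lit 5, nat_lit 6],
   [nat_lit 5, nat_lit 7, nat_lit 5, nat_lit 7],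
   [nat_lit 5, nat_lit 8, nat_lit 5, nat_lit 8],
   [nat_lit 5, nat_lit 9, nat_lit 5, nat_lit 9],
   [nat_lit 5, nat_lit 10, nat_lit 5, nat_lit 10],
   [nat_lit 5, nat_lit 11, nat_lit 5, nat_lit 11],
   [nat_lit 5, nat_lit 12, nat_lit 5, nat_lit 12],
   [nat_lit 5, nat_lit 13, nat_lit 5, nat_lit 13],
   [nat_lit 6, nat_lit 7, nat_lit 6, nat_lit 7, nat_lit 6, nat_lit 7],
   [nat_lit 6, nat_lit 8, nat_lit 6, nat_lit 8],
   [nat_lit 6, nat_lit 9, nat_lit 6, nat_lit 9],
   [nat_lit 6, nat_lit 10, nat_lit 6, nat_lit 10]]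

theorem rl2_0 : pl rl2 (nat_lit 0) = true := by decide +kernel
theorem rl2_1 : pl rl2 (nat_lit 1) = true := by decide +kernel
theorem rl2_2 : pl rl2 (nat_lit 2) = true := by decide +kernel
theorem rl2_3 : pl rl2 (nat_lit 3) = true := by decide +kernel
theorem rl2_4 : pl rl2 (nat_lit 4) = true := by decide +kernel
theorem rl2_5 : pl rl2 (nat_lit 5) = true := by decide +kernel
theorem rl2_6 : pl rl2 (nat_lit 6) = true := by decide +kernel
theorem rl2_7 : pl rl2 (nat_lit 7) = true := by decide +kernel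
theorem rl2_8 : pl rl2 (nat_lit 8) = true := by decide +kernel
theorem rl2_9 : pl rl2 (nat_lit 9) = true := by decide +kernel
theorem rl2_10 : pl rl2 (nat_lit 10) = true := by decide +kernel
theorem rl2_11 : pl rl2 (nat_lit 11) = true := by decide +kernel
theorem rl2_12 : pl rl2 (nat_lit 12) = true := by decide +kernel
theorem rl2_13 : pl rl2 (nat_lit 13) = true := by decide +kernel
theorem rl2_14 : pl rl2 (nat_lit 14) = true := by decide +kernel
theorem rl2_15 : pl rl2 (nat_lit 15) = true := by decide +kernel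
theorem rl2_16 : pl rl2 (nat_lit 16) = true := by decide +kernel
theorem rl2_17 : pl rl2 (nat_lit 17) = true := by decide +kernel
theorem rl2_18 : pl rl2 (nat_lit 18) = true := by decide +kernel

theorem trv2 : Trv rl2 := trv_of_pl (by decide +kernel) fun b h => by
  interval_cases b
  exacts [rl2_0, rl2_1, rl2_2, rl2_3, rl2_4, rl2_5, rl2_6, rl2_7, rl2_8, rl2_9, rl2_10, rl2_11, rl2_12, rl2_13, rl2_14, rl2_15, rl2_16, rl2_17, rl2_18]

def rl3 : List (List ℕ) :=
  [[nat_lit 6, nat_lit 11, nat_lit 6, nat_lit 11],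
   [nat_lit 6, nat_lit 12, nat_lit 6, nat_lit 12],
   [nat_lit 6, nat_lit 13, nat_lit 6, nat_lit 13],
   [nat_lit 7, nat_lit 8, nat_lit 7, nat_lit 8],
   [nat_lit 7, nat_lit 9, nat_lit 7, nat_lit 9],
   [nat_lit 8, nat_lit 9, nat_lit 8, nat_lit 9, nat_lit 8, nat_lit 9],
   [nat_lit 8, nat_lit 10, nat_lit 8, nat_lit 10],
   [nat_lit 8, nat_lit 11, nat_lit 8, nat_lit 11],
   [nat_lit 8, nat_lit 12, nat_lit 8, nat_lit 12],
   [nat_lit 8, nat_lit 13, nat_lit 8, nat_lit 13, nat_lit 8, nat_lit 13],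
   [nat_lit 9, nat_lit 10, nat_lit 9, nat_lit 10],
   [nat_lit 9, nat_lit 11, nat_lit 9, nat_lit 11],
   [nat_lit 9, nat_lit 12, nat_lit 9, nat_lit 12],
   [nat_lit 9, nat_lit 13, nat_lit 9, nat_lit 13],
   [nat_lit 10, nat_lit 11, nat_lit 10, nat_lit 11, nat_lit 10, nat_lit 11],
   [nat_lit 10, nat_lit 12, nat_lit 10, nat_lit 12],
   [nat_lit 10, nat_lit 13, nat_lit 10, nat_lit 13],
   [nat_lit 11, nat_lit 12, nat_lit 11, nat_lit 12],
   [nat_lit 11, nat_lit 13, nat_lit 11, nat_lit 13],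
   [nat_lit 12, nat_lit 13, nat_lit 12, nat_lit 13, nat_lit 12, nat_lit 13]]

theorem rl3_0 : pl rl3 (nat_lit 0) = true := by decide +kernel
theorem rl3_1 : pl rl3 (nat_lit 1) = true := by decide +kernel
theorem rl3_2 : pl rl3 (nat_lit 2) = true := by decide +kernel
theorem rl3_3 : pl rl3 (nat_lit 3) = true := by decide +kernel
theorem rl3_4 : pl rl3 (nat_lit 4) = true := by decide +kernel
theorem rl3_5 : pl rl3 (nat_lit 5) = true := by decide +kernel
theorem rl3_6 : pl rl3 (nat_lit 6) = true := by decide +kernel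
theorem rl3_7 : pl rl3 (nat_lit 7) = true := by decide +kernel
theorem rl3_8 : pl rl3 (nat_lit 8) = true := by decide +kernel
theorem rl3_9 : pl rl3 (nat_lit 9) = true := by decide +kernel
theorem rl3_10 : pl rl3 (nat_lit 10) = true := by decide +kernel
theorem rl3_11 : pl rl3 (nat_lit 11) = true := by decide +kernel
theorem rl3_12 : pl rl3 (nat_lit 12) = true := by decide +kernel
theorem rl3_13 : pl rl3 (nat_lit 13) = true := by decide +kernel
theorem rl3_14 : pl rl3 (nat_lit 14) = true := by decide +kernel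
theorem rl3_15 : pl rl3 (nat_lit 15) = true := by decide +kernel
theorem rl3_16 : pl rl3 (nat_lit 16) = true := by decide +kernel
theorem rl3_17 : pl rl3 (nat_lit 17) = true := by decide +kernel
theorem rl3_18 : pl rl3 (nat_lit 18) = true := by decide +kernel

theorem trv3 : Trv rl3 := trv_of_pl (by decide +kernel) fun b h => by
  interval_cases b
  exacts [rl3_0, rl3_1, rl3_2, rl3_3, rl3_4, rl3_5, rl3_6, rl3_7, rl3_8, rl3_9, rl3_10, rl3_11, rl3_12, rl3_13, rl3_14, rl3_15, rl3_16, rl3_17, rl3_18]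

end Cfsg.Agent.Ex9
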