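import Cfsg.Agent.Ex9.Net

/-! Kernel checks of relations. -/

set_option autoImplicit false
set_option maxRecDepth 100000
set_option Elab.async false

namespace Cfsg.Agent.Ex9

def rl4 : List (List ℕ) :=
  [[nat_lit 7, nat_lit 3, nat_lit 2, nat_lit 1, nat_lit 0, nat_lit 9, nat_lit 8, nat_lit 5, nat_lit 1, nat_lit 0, nat_lit 9, nat_lit 2, nat_lit 1, nat_lit 5, nat_lit 3, nat_lit 2, nat_lit 1, nat_lit 0, nat_lit 1, nat_lit 2, nat_lit 3, nat_lit 5, nat_lit 1, nat_lit 2, nat_lit 9, nat_lit 0, nat_lit 1, nat_lit 5, nat_lit 8, nat_lit 9, nat_lit 0, nat_lit 1, nat_lit 2, nat_lit 3],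
   [nat_lit 7, nat_lit 6, nat_lit 5, nat_lit 1, nat_lit 0, nat_lit 2, nat_lit 1, nat_lit 3, nat_lit 2, nat_lit 5, nat_lit 1, nat_lit 0, nat_lit 6, nat_lit 5, nat_lit 1, nat_lit 2, nat_lit 3, nat_lit 7, nat_lit 3, nat_lit 2, nat_lit 1, nat_lit 5, nat_lit 6, nat_lit 0, nat_lit 1, nat_lit 5, nat_lit 2, nat_lit 3, nat_lit 1, nat_lit 2, nat_lit 0, nat_lit 1, nat_lit 5, nat_lit 6],
   [nat_lit 5, nat_lit 6, nat_lit 7, nat_lit 3, nat_lit 2, nat_lit 1, nat_lit 4, nat_lit 3, nat_lit 2, nat_lit 5, nat_lit 1, nat_lit 2, nat_lit 6, nat_lit 5, nat_lit 1, nat_lit 7, nat_lit 3, nat_lit 2, nat_lit 4, nat_lit 3, nat_lit 6, nat_lit 7, nat_lit 6, nat_lit 3, nat_lit 4, nat_lit 2, nat_lit 3, nat_lit 7, nat_lit 1, nat_lit 5, nat_lit 6, nat_lit 2, nat_lit 1, nat_lit 5, nat_lit 2, nat_lit 3, nat_lit 4, nat_lit 1, nat_lit 2, nat_lit 3, nat_lit 7, nat_lit 6]]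

theorem rl4_0 : pl rl4 (nat_lit 0) = true := by decide +kernel
theorem rl4_1 : pl rl4 (nat_lit 1) = true := by decide +kernel
theorem rl4_2 : pl rl4 (nat_lit 2) = true := by decide +kernel
theorem rl4_3 : pl rl4 (nat_lit 3) = true := by decide +kernel
theorem rl4_4 : pl rl4 (nat_lit 4) = true := by decide +kernel
theorem rl4_5 : pl rl4 (nat_lit 5) = true := by decide +kernel
theorem rl4_6 : pl rl4 (nat_lit 6) = true := by decide +kernel
theorem rl4_7 : pl rl4 (nat_lit 7) = true := by decide +kernel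
theorem rl4_8 : pl rl4 (nat_lit 8) = true := by decide +kernel
theorem rl4_9 : pl rl4 (nat_lit 9) = true := by decide +kernel
theorem rl4_10 : pl rl4 (nat_lit 10) = true := by decide +kernel
theorem rl4_11 : pl rl4 (nat_lit 11) = true := by decide +kernel
theorem rl4_12 : pl rl4 (nat_lit 12) = true := by decide +kernel
theorem rl4_13 : pl rl4 (nat_lit 13) = true := by decide +kernel
theorem rl4_14 : pl rl4 (nat_lit 14) = true := by decide +kernel
theorem rl4_15 : pl rl4 (nat_lit 15) = true := by decide +kernel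
theorem rl4_16 : pl rl4 (nat_lit 16) = true := by decide +kernel
theorem rl4_17 : pl rl4 (nat_lit 17) = true := by decide +kernel
theorem rl4_18 : pl rl4 (nat_lit 18) = true := by decide +kernel

theorem trv4 : Trv rl4 := trv_of_pl (by decide +kernel) fun b h => by
  interval_cases b
  exacts [rl4_0, rl4_1, rl4_2, rl4_3, rl4_4, rl4_5, rl4_6, rl4_7, rl4_8, rl4_9, rl4_10, rl4_11, rl4_12, rl4_13, rl4_14, rl4_15, rl4_16, rl4_17, rl4_18]

def rl5 : List (List ℕ) :=
  [[nat_lit 4, nat_lit 6, nat_lit 5, nat_lit 3, nat_lit 1, nat_lit 2, nat_lit 0, nat_lit 1, nat_lit 5, nat_lit 6, nat_lit 0, nat_lit 3, nat_lit 1, nat_lit 2, nat_lit 1, nat_lit 5, nat_lit 4, nat_lit 3, nat_lit 1, nat_lit 0, nat_lit 1, nat_lit 2, nat_lit 1, nat_lit 0, nat_lit 1, nat_lit 3, nat_lit 4, nat_lit 5, nat_lit 1, nat_lit 2, nat_lit 1, nat_lit 3, nat_lit 0, nat_lit 6, nat_lit 5, nat_lit 1, nat_lit 0, nat_lit 2, nat_lit 1, nat_lit 3, nat_lit 5, nat_lit 6, nat_lit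 10, nat_lit 3, nat_lit 2, nat_lit 1, nat_lit 5, nat_lit 0, nat_lit 1, nat_lit 2, nat_lit 3, nat_lit 4, nat_lit 11, nat_lit 4, nat_lit 3, nat_lit 2, nat_lit 1, nat_lit 0, nat_lit 5, nat_lit 1, nat_lit 2, nat_lit 3, nat_lit 10, nat_lit 6, nat_lit 5, nat_lit 3, nat_lit 1, nat_lit 2, nat_lit 0, nat_lit 1, nat_lit 5, nat_lit 6, nat_lit 0, nat_lit 3, nat_lit 1, nat_lit 2, nat_lit 1, nat_lit 5, nat_lit 4, nat_lit 3, nat_lit 1, nat_lit 0, nat_lit 1, nat_lit 2, nat_lit 1, nat_lit 0, nat_lit 1, nat_lit 3, nat_lit 4, nat_lit 5, nat_lit 1, nat_lit 2, nat_lit 1, nat_lit 3, nat_lit 0, nat_lit 6, nat_lit 5, nat_lit 1, nat_lit 0, nat_lit 2, nat_lit 1, nat_lit 3, nat_lit 5, nat_lit 6, nat_lit 4, nat_lit 11]]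

theorem rl5_0 : pl rl5 (nat_lit 0) = true := by decide +kernel
theorem rl5_1 : pl rl5 (nat_lit 1) = true := by decide +kernel
theorem rl5_2 : pl rl5 (nat_lit 2) = true := by decide +kernel
theorem rl5_3 : pl rl5 (nat_lit 3) = true := by decide +kernel
theorem rl5_4 : pl rl5 (nat_lit 4) = true := by decide +kernel
theorem rl5_5 : pl rl5 (nat_lit 5) = true := by decide +kernel
theorem rl5_6 : pl rl5 (nat_lit 6) = true := by decide +kernel
theorem rl5_7 : pl rl5 (nat_lit 7) = true := by decide +kernel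
theorem rl5_8 : pl rl5 (nat_lit 8) = true := by decide +kernel
theorem rl5_9 : pl rl5 (nat_lit 9) = true := by decide +kernel
theorem rl5_10 : pl rl5 (nat_lit 10) = true := by decide +kernel
theorem rl5_11 : pl rl5 (nat_lit 11) = true := by decide +kernel
theorem rl5_12 : pl rl5 (nat_lit 12) = true := by decide +kernel
theorem rl5_13 : pl rl5 (nat_lit 13) = true := by decide +kernel
theorem rl5_14 : pl rl5 (nat_lit 14) = true := by decide +kernel
theorem rl5_15 : pl rl5 (nat_lit 15) = true := by decide +kernel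
theorem rl5_16 : pl rl5 (nat_lit 16) = true := by decide +kernel
theorem rl5_17 : pl rl5 (nat_lit 17) = true := by decide +kernel
theorem rl5_18 : pl rl5 (nat_lit 18) = true := by decide +kernel

theorem trv5 : Trv rl5 := trv_of_pl (by decide +kernel) fun b h => by
  interval_cases b
  exacts [rl5_0, rl5_1, rl5_2, rl5_3, rl5_4, rl5_5, rl5_6, rl5_7, rl5_8, rl5_9, rl5_10, rl5_11, rl5_12, rl5_13, rl5_14, rl5_15, rl5_16, rl5_17, rl5_18]

end Cfsg.Agent.Ex9
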