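import Cfsg.Agent.Ex9.Net

/-! Kernel checks of relations. -/

set_option autoImplicit false
set_option maxRecDepth 100000
set_option Elab.async false

namespace Cfsg.Agent.Ex9

def rl6 : List (List ℕ) :=
  [[nat_lit 8, nat_lit 9, nat_lit 0, nat_lit 1, nat_lit 2, nat_lit 5, nat_lit 1, nat_lit 0, nat_lit 9, nat_lit 3, nat_lit 2, nat_lit 1, nat_lit 0, nat_lit 9, nat_lit 0, nat_lit 1, nat_lit 5, nat_lit 1, nat_lit 2, nat_lit 0, nat_lit 1, nat_lit 5, nat_lit 3, nat_lit 2, nat_lit 0, nat_lit 1, nat_lit 0, nat_lit 9, nat_lit 5, nat_lit 8, nat_lit 5, nat_lit 9, nat_lit 0, nat_lit 1, nat_lit 0, nat_lit 2, nat_lit 3, nat_lit 5, nat_lit 1, nat_lit 0, nat_lit 2, nat_lit 1, nat_lit 5, nat_lit 1, nat_lit 0, nat_lit 9, nat_lit 0, nat_lit 1, nat_lit 2, nat_lit 3, nat_lit 12, nat_lit 8, nat_lit 13, nat_lit 8, nat_lit 12, nat_lit 3, nat_lit 2, nat_lit 1, nat_lit 0, nat_lit 9, nat_lit 0, nat_lit 1, nat_lit 5, nat_lit 1, nat_lit 2,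 nat_lit 0, nat_lit 1, nat_lit 5, nat_lit 3, nat_lit 2, nat_lit 0, nat_lit 1, nat_lit 0, nat_lit 9, nat_lit 5, nat_lit 8, nat_lit 5, nat_lit 9, nat_lit 0, nat_lit 1, nat_lit 0, nat_lit 2, nat_lit 3, nat_lit 5, nat_lit 1, nat_lit 0, nat_lit 2, nat_lit 1, nat_lit 5, nat_lit 1, nat_lit 0, nat_lit 9, nat_lit 0, nat_lit 1, nat_lit 2, nat_lit 3, nat_lit 9, nat_lit 0, nat_lit 1, nat_lit 5, nat_lit 2, nat_lit 1, nat_lit 0, nat_lit 9, nat_lit 8, nat_lit 13]]

theorem rl6_0 : pl rl6 (nat_lit 0) = true := by decide +kernel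
theorem rl6_1 : pl rl6 (nat_lit 1) = true := by decide +kernel
theorem rl6_2 : pl rl6 (nat_lit 2) = true := by decide +kernel
theorem rl6_3 : pl rl6 (nat_lit 3) = true := by decide +kernel
theorem rl6_4 : pl rl6 (nat_lit 4) = true := by decide +kernel
theorem rl6_5 : pl rl6 (nat_lit 5) = true := by decide +kernel
theorem rl6_6 : pl rl6 (nat_lit 6) = true := by decide +kernel
theorem rl6_7 : pl rl6 (nat_lit 7) = true := by decide +kernel
theorem rl6_8 : pl rl6 (nat_lit 8) = true := by decide +kernel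
theorem rl6_9 : pl rl6 (nat_lit 9) = true := by decide +kernel
theorem rl6_10 : pl rl6 (nat_lit 10) = true := by decide +kernel
theorem rl6_11 : pl rl6 (nat_lit 11) = true := by decide +kernel
theorem rl6_12 : pl rl6 (nat_lit 12) = true := by decide +kernel
theorem rl6_13 : pl rl6 (nat_lit 13) = true := by decide +kernel
theorem rl6_14 : pl rl6 (nat_lit 14) = true := by decide +kernel
theorem rl6_15 : pl rl6 (nat_lit 15) = true := by decide +kernel
theorem rl6_16 : pl rl6 (nat_lit 16) = true := by decide +kernel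
theorem rl6_17 : pl rl6 (nat_lit 17) = true := by decide +kernel
theorem rl6_18 : pl rl6 (nat_lit 18) = true := by decide +kernel

theorem trv6 : Trv rl6 := trv_of_pl (by decide +kernel) fun b h => by
  interval_cases b
  exacts [rl6_0, rl6_1, rl6_2, rl6_3, rl6_4, rl6_5, rl6_6, rl6_7, rl6_8, rl6_9, rl6_10, rl6_11, rl6_12, rl6_13, rl6_14, rl6_15, rl6_16, rl6_17, rl6_18]

def rl7 : List (List ℕ) :=
  [[nat_lit 8, nat_lit 9, nat_lit 0, nat_lit 1, nat_lit 2, nat_lit 3, nat_lit 4, nat_lit 5, nat_lit 1, nat_lit 0, nat_lit 2, nat_lit 1, nat_lit 3, nat_lit 6, nat_lit 5, nat_lit 1, nat_lit 0, nat_lit 2, nat_lit 1, nat_lit 3, nat_lit 9, nat_lit 0, nat_lit 1, nat_lit 2, nat_lit 5, nat_lit 1, nat_lit 6, nat_lit 5, nat_lit 8, nat_lit 9, nat_lit 0, nat_lit 1, nat_lit 2, nat_lit 3, nat_lit 4, nat_lit 11, nat_lit 4, nat_lit 3, nat_lit 2, nat_lit 1, nat_lit 0, nat_lit 9, nat_lit 8, nat_lit 5, nat_lit 6, nat_lit 1, nat_lit 5, nat_lit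 2, nat_lit 1, nat_lit 0, nat_lit 9, nat_lit 3, nat_lit 1, nat_lit 2, nat_lit 0, nat_lit 1, nat_lit 5, nat_lit 6, nat_lit 3, nat_lit 1, nat_lit 2, nat_lit 0, nat_lit 1, nat_lit 5, nat_lit 4, nat_lit 3, nat_lit 2, nat_lit 1, nat_lit 0, nat_lit 9, nat_lit 8, nat_lit 13, nat_lit 8, nat_lit 9, nat_lit 0, nat_lit 1, nat_lit 2, nat_lit 3, nat_lit 4, nat_lit 5, nat_lit 1, nat_lit 0, nat_lit 2, nat_lit 1, nat_lit 3, nat_lit 6, nat_lit 5, nat_lit 1, nat_lit 0, nat_lit 2, nat_lit 1, nat_lit 3, nat_lit 9, nat_lit 0, nat_lit 1, nat_lit 2, nat_lit 5, nat_lit 1, nat_lit 6, nat_lit 5, nat_lit 8, nat_lit 9, nat_lit 0, nat_lit 1, nat_lit 2, nat_lit 3, nat_lit 4, nat_lit 11, nat_lit 4, nat_lit 3, nat_lit 2, nat_lit 1, nat_lit 0, nat_lit 9, nat_lit 8, nat_lit 5, nat_lit 6, nat_lit 1, nat_lit 5, nat_lit 2, nat_lit 1, nat_lit 0, nat_lit 9, nat_lit 3, nat_lit 1, nat_lit 2, nat_lit 0, nat_lit 1, nat_lit 5, nat_lit 6, nat_lit 3, nat_lit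 1, nat_lit 2, nat_lit 0, nat_lit 1, nat_lit 5, nat_lit 4, nat_lit 3, nat_lit 2, nat_lit 1, nat_lit 0, nat_lit 9, nat_lit 8, nat_lit 13]]

theorem rl7_0 : pl rl7 (nat_lit 0) = true := by decide +kernel
theorem rl7_1 : pl rl7 (nat_lit 1) = true := by decide +kernel
theorem rl7_2 : pl rl7 (nat_lit 2) = true := by decide +kernel
theorem rl7_3 : pl rl7 (nat_lit 3) = true := by decide +kernel
theorem rl7_4 : pl rl7 (nat_lit 4) = true := by decide +kernel
theorem rl7_5 : pl rl7 (nat_lit 5) = true := by decide +kernel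
theorem rl7_6 : pl rl7 (nat_lit 6) = true := by decide +kernel
theorem rl7_7 : pl rl7 (nat_lit 7) = true := by decide +kernel
theorem rl7_8 : pl rl7 (nat_lit 8) = true := by decide +kernel
theorem rl7_9 : pl rl7 (nat_lit 9) = true := by decide +kernel
theorem rl7_10 : pl rl7 (nat_lit 10) = true := by decide +kernel
theorem rl7_11 : pl rl7 (nat_lit 11) = true := by decide +kernel
theorem rl7_12 : pl rl7 (nat_lit 12) = true := by decide +kernel
theorem rl7_13 : pl rl7 (nat_lit 13) = true := by decide +kernel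
theorem rl7_14 : pl rl7 (nat_lit 14) = true := by decide +kernel
theorem rl7_15 : pl rl7 (nat_lit 15) = true := by decide +kernel
theorem rl7_16 : pl rl7 (nat_lit 16) = true := by decide +kernel
theorem rl7_17 : pl rl7 (nat_lit 17) = true := by decide +kernel
theorem rl7_18 : pl rl7 (nat_lit 18) = true := by decide +kernel

theorem trv7 : Trv rl7 := trv_of_pl (by decide +kernel) fun b h => by
  interval_cases b
  exacts [rl7_0, rl7_1, rl7_2, rl7_3, rl7_4, rl7_5, rl7_6, rl7_7, rl7_8, rl7_9, rl7_10, rl7_11, rl7_12, rl7_13, rl7_14, rl7_15, rl7_16, rl7_17, rl7_18]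

end Cfsg.Agent.Ex9
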